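import Mathlib

/-!
# Elements of `GL_n`
-/

set_option autoImplicit false
set_option linter.unusedSectionVars false

namespace CfsgLib.SpPres

open Matrix Equiv

variable {ι F : Type*} [Fintype ι] [DecidableEq ι] [Field F]

/-- A standard vector. -/
def bv (i : ι) : ι → F := Pi.single i 1

/-- A transvection in `GL`. -/
def tr (i j : ι) (t : F) : GL ι F :=
  if h : i = j then 1 else
    ⟨transvection i j t, transvection i j (-t),
      by rw [transvection_mul_transvection_same _ _ h, add_neg_cancel, transvection_zero],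
      by rw [transvection_mul_transvection_same _ _ h, neg_add_cancel, transvection_zero]⟩

theorem coe_tr {i j : ι} (h : i ≠ j) (t : F) : ((tr i j t : GL ι F) : Matrix ι ι F) = transvection i j t := by
  rw [tr, dif_neg h]

theorem tr_mul {i j : ι} (h : i ≠ j) (s t : F) : tr i j s * tr i j t = (tr i j (s + t) : GL ι F) := by
  apply Units.ext
  rw [Units.val_mul, coe_tr h, coe_tr h, coe_tr h, transvection_mul_transvection_same _ _ h]

theorem tr_zero {i j : ι} (h : i ≠ j) : (tr i j (0 : F) : GL ι F) = 1 := by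
  apply Units.ext
  rw [coe_tr h, transvection_zero, Units.val_one]

theorem tr_inv {i j : ι} (h : i ≠ j) (t : F) : (tr i j t : GL ι F)⁻¹ = tr i j (-t) :=
  inv_eq_of_mul_eq_one_right (by rw [tr_mul h, add_neg_cancel, tr_zero h])

theorem tr_apply {i j : ι} (h : i ≠ j) (t : F) (a b : ι) :
    ((tr i j t : GL ι F) : Matrix ι ι F) a b =
      (if a = b then 1 else 0) + (if a = i ∧ b = j then t else 0) := by
  rw [coe_tr h, transvection, Matrix.add_apply, Matrix.one_apply, Matrix.single_apply]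
  congr 1
  by_cases hh : a = i ∧ b = j
  · rw [if_pos hh, if_pos ⟨hh.1.symm, hh.2.symm⟩]
  · rw [if_neg hh, if_neg fun h' => hh ⟨h'.1.symm, h'.2.symm⟩]

theorem tr_vec {i j : ι} (h : i ≠ j) (t : F) (v : ι → F) :
    ((tr i j t : GL ι F) : Matrix ι ι F) *ᵥ v = v + Pi.single i (t * v j) := by
  rw [coe_tr h, transvection, add_mulVec, one_mulVec]
  congr 1
  funext a
  simp only [Matrix.mulVec, dotProduct, Matrix.single_apply, Pi.single_apply, ite_mul, zero_mul]
  by_cases ha : i = a
  · simp [ha]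
  · simp [ha, Ne.symm ha]

theorem tr_bv {i j : ι} (h : i ≠ j) (t : F) (k : ι) :
    ((tr i j t : GL ι F) : Matrix ι ι F) *ᵥ bv k = if k = j then bv j + t • bv i else bv k := by
  rw [tr_vec h]
  split_ifs with hk
  · subst hk
    funext a
    simp [bv, Pi.single_apply]
  · funext a
    simp [bv, Pi.single_apply, Ne.symm hk]

/-- Diagonal matrices. -/
def dg : (ι → Fˣ) →* GL ι F where
  toFun f := ⟨diagonal fun i => (f i : F), diagonal fun i => ((f i)⁻¹ : Fˣ),
    by simp [diagonal_mul_diagonal], by simp [diagonal_mul_diagonal]⟩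
  map_one' := Units.ext (by simp)
  map_mul' f g := Units.ext (by simp [diagonal_mul_diagonal])

@[simp] theorem coe_dg (f : ι → Fˣ) :
    ((dg f : GL ι F) : Matrix ι ι F) = diagonal fun i => (f i : F) := rfl

theorem dg_vec (f : ι → Fˣ) (v : ι → F) :
    ((dg f : GL ι F) : Matrix ι ι F) *ᵥ v = fun i => (f i : F) * v i := by
  funext i
  rw [coe_dg, mulVec_diagonal]

theorem dg_bv (f : ι → Fˣ) (k : ι) :
    ((dg f : GL ι F) : Matrix ι ι F) *ᵥ bv k = (f k : F) • bv k := by
  rw [dg_vec]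
  funext i
  by_cases h : i = k
  · subst h; simp [bv]
  · simp [bv, h]

/-- The diagonal matrix with `a` in one place. -/
def d1 (i : ι) (a : Fˣ) : GL ι F := dg (Pi.mulSingle i a)

theorem dg_conj_tr (f : ι → Fˣ) {i j : ι} (h : i ≠ j) (t : F) :
    dg f * tr i j t * (dg f)⁻¹ = tr i j ((f i : F) * t * ((f j)⁻¹ : Fˣ)) := by
  rw [mul_inv_eq_iff_eq_mul]
  apply Units.ext
  ext a b
  rw [Units.val_mul, Units.val_mul, coe_dg, diagonal_mul, mul_diagonal, tr_apply h, tr_apply h]
  by_cases hab : a = b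
  · subst hab
    by_cases hh : a = i ∧ a = j
    · exact absurd (hh.1.symm.trans hh.2) h
    · simp [hh]
  · by_cases hh : a = i ∧ b = j
    · obtain ⟨rfl, rfl⟩ := hh
      simp [hab]
    · simp [hab, hh]

/-- Permutation matrices. -/
def pm : Perm ι →* GL ι F where
  toFun σ := ⟨σ⁻¹.permMatrix F, σ.permMatrix F,
    by rw [← Matrix.permMatrix_mul, mul_inv_cancel, Matrix.permMatrix_one],
    by rw [← Matrix.permMatrix_mul, inv_mul_cancel, Matrix.permMatrix_one]⟩
  map_one' := Units.ext (by simp)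
  map_mul' σ τ := Units.ext (by simp [← Matrix.permMatrix_mul])

theorem pm_apply (σ : Perm ι) (a b : ι) :
    ((pm σ : GL ι F) : Matrix ι ι F) a b = if a = σ b then 1 else 0 := by
  show σ⁻¹.permMatrix F a b = _
  simp [Equiv.Perm.permMatrix, PEquiv.toMatrix_apply, Equiv.toPEquiv_apply, Perm.inv_def,
    Equiv.symm_apply_eq]

theorem pm_bv (σ : Perm ι) (k : ι) : ((pm σ : GL ι F) : Matrix ι ι F) *ᵥ bv k = bv (σ k) := by
  funext a
  rw [bv, mulVec_single_one, bv, Matrix.col_apply, pm_apply, Pi.single_apply]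

theorem pm_mul_apply (σ : Perm ι) (M : Matrix ι ι F) (a b : ι) :
    (((pm σ : GL ι F) : Matrix ι ι F) * M) a b = M (σ⁻¹ a) b := by
  rw [Matrix.mul_apply, Finset.sum_eq_single (σ⁻¹ a) (fun k _ hk => ?_) (by simp), pm_apply,
    if_pos (by simp), one_mul]
  rw [pm_apply, if_neg, zero_mul]
  intro h
  exact hk (by simp [h])

theorem mul_pm_apply (σ : Perm ι) (M : Matrix ι ι F) (a b : ι) :
    (M * ((pm σ : GL ι F) : Matrix ι ι F)) a b = M a (σ b) := by
  rw [Matrix.mul_apply, Finset.sum_eq_single (σ b) (fun k _ hk => ?_) (by simp), pm_apply, if_pos rfl,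
    mul_one]
  rw [pm_apply, if_neg hk, mul_zero]

theorem pm_conj_apply (σ : Perm ι) (g : GL ι F) (a b : ι) :
    ((pm σ * g * (pm σ)⁻¹ : GL ι F) : Matrix ι ι F) a b = (g : Matrix ι ι F) (σ⁻¹ a) (σ⁻¹ b) := by
  rw [← map_inv, Units.val_mul, Units.val_mul, mul_pm_apply, pm_mul_apply]

theorem pm_conj_tr (σ : Perm ι) {i j : ι} (h : i ≠ j) (t : F) :
    pm σ * tr i j t * (pm σ)⁻¹ = (tr (σ i) (σ j) t : GL ι F) := by
  apply Units.ext
  ext a b
  rw [pm_conj_apply, tr_apply h, tr_apply (σ.injective.ne h)]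
  simp [Perm.inv_def, Equiv.symm_apply_eq]

theorem pm_conj_dg (σ : Perm ι) (f : ι → Fˣ) :
    pm σ * dg f * (pm σ)⁻¹ = (dg (f ∘ ⇑σ⁻¹) : GL ι F) := by
  apply Units.ext
  ext a b
  rw [pm_conj_apply, coe_dg, coe_dg, diagonal_apply, diagonal_apply]
  simp

theorem pm_conj_d1 (σ : Perm ι) (i : ι) (a : Fˣ) :
    pm σ * d1 i a * (pm σ)⁻¹ = (d1 (σ i) a : GL ι F) := by
  rw [d1, pm_conj_dg, d1]
  congr 1
  funext k
  simp [Pi.mulSingle_apply, Perm.inv_def, Equiv.symm_apply_eq]

/-- Moving three points to three points. -/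
theorem exists_perm_three {i j k a b c : ι} (hij : i ≠ j) (hik : i ≠ k) (hjk : j ≠ k) (hab : a ≠ b)
    (hac : a ≠ c) (hbc : b ≠ c) : ∃ σ : Perm ι, σ i = a ∧ σ j = b ∧ σ k = c := by
  set s₁ := swap i a
  set s₂ := swap (s₁ j) b * s₁
  have h2i : s₂ i = a := by
    simp only [s₂, Perm.mul_apply, s₁, swap_apply_left]
    exact swap_apply_of_ne_of_ne (fun e => hij ((swap i a).injective ((swap_apply_left i a).trans e))) hab
  have h2j : s₂ j = b := by simp [s₂]
  refine ⟨swap (s₂ k) c * s₂, ?_, ?_, by simp⟩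
  · rw [Perm.mul_apply, h2i]
    exact swap_apply_of_ne_of_ne (by rw [← h2i]; exact s₂.injective.ne hik) hac
  · rw [Perm.mul_apply, h2j]
    exact swap_apply_of_ne_of_ne (by rw [← h2j]; exact s₂.injective.ne hjk) hbc

/-- Moving two points to two points. -/
theorem exists_perm_two {i j a b : ι} (hij : i ≠ j) (hab : a ≠ b) : ∃ σ : Perm ι, σ i = a ∧ σ j = b := by
  refine ⟨swap (swap i a j) b * swap i a, ?_, by simp⟩
  rw [Perm.mul_apply, swap_apply_left]
  exact swap_apply_of_ne_of_ne (fun e => hij ((swap i a).injective ((swap_apply_left i a).trans e))) hab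

theorem det_ne (g : GL ι F) : ((g : Matrix ι ι F)).det ≠ 0 :=
  (Matrix.isUnit_iff_isUnit_det _).mp g.isUnit |>.ne_zero

/-- Induction on diagonal matrices and transvections. -/
theorem GL_induction (P : GL ι F → Prop) (hd : ∀ f : ι → Fˣ, P (dg f))
    (ht : ∀ i j, i ≠ j → ∀ t : F, P (tr i j t)) (hm : ∀ a b, P a → P b → P (a * b)) (g : GL ι F) : P g := by
  have := diagonal_transvection_induction_of_det_ne_zero
    (fun M => ∀ x : GL ι F, (x : Matrix ι ι F) = M → P x) (g : Matrix ι ι F) (det_ne g) ?_ ?_ ?_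
  · exact this g rfl
  · intro D hD x hx
    rw [det_diagonal, Finset.prod_ne_zero_iff] at hD
    have : x = dg fun i => Units.mk0 (D i) (hD i (Finset.mem_univ i)) := Units.ext (by rw [hx, coe_dg]; rfl)
    exact this ▸ hd _
  · rintro ⟨i, j, h, c⟩ x hx
    have : x = tr i j c := Units.ext (by rw [hx, coe_tr h]; rfl)
    exact this ▸ ht i j h c
  · intro A B hA hB iA iB x hx
    have hA' : IsUnit A := (Matrix.isUnit_iff_isUnit_det A).mpr hA.isUnit
    have hB' : IsUnit B := (Matrix.isUnit_iff_isUnit_det B).mpr hB.isUnit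
    have : x = hA'.unit * hB'.unit := Units.ext (by simp [hx])
    exact this ▸ hm _ _ (iA _ hA'.unit_spec) (iB _ hB'.unit_spec)

theorem det_updateCol_one (k : ι) (v : ι → F) : ((1 : Matrix ι ι F).updateCol k v).det = v k := by
  have h := cramer_apply (1 : Matrix ι ι F) v k
  rw [cramer_one] at h
  exact h.symm

/-- A nonzero vector is a column of an invertible matrix. -/
theorem exists_col (i : ι) {v : ι → F} (hv : v ≠ 0) : ∃ g : GL ι F, (g : Matrix ι ι F) *ᵥ bv i = v := by
  obtain ⟨k, hk⟩ := Function.ne_iff.mp hv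
  have hd : IsUnit ((1 : Matrix ι ι F).updateCol k v) :=
    (Matrix.isUnit_iff_isUnit_det _).mpr (by rw [det_updateCol_one]; exact Ne.isUnit hk)
  refine ⟨hd.unit * pm (swap i k), ?_⟩
  rw [Units.val_mul, ← mulVec_mulVec, pm_bv, swap_apply_left, IsUnit.unit_spec, bv, mulVec_single_one]
  funext a
  simp [Matrix.col_apply]

/-- Two independent vectors are columns of an invertible matrix. -/
theorem exists_two_col {i j : ι} (hij : i ≠ j) {v w : ι → F} (hv : v ≠ 0) (h : ∀ a : F, w ≠ a • v) :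
    ∃ g : GL ι F, (g : Matrix ι ι F) *ᵥ bv i = v ∧ (g : Matrix ι ι F) *ᵥ bv j = w := by
  obtain ⟨g, hg⟩ := exists_col i hv
  set u := ((g⁻¹ : GL ι F) : Matrix ι ι F) *ᵥ w with hu
  have hgu : (g : Matrix ι ι F) *ᵥ u = w := by
    rw [hu, mulVec_mulVec, ← Units.val_mul, mul_inv_cancel, Units.val_one, one_mulVec]
  obtain ⟨k, hki, hk⟩ : ∃ k, k ≠ i ∧ u k ≠ 0 := by
    by_contra hc
    push Not at hc
    refine h (u i) ?_
    have : u = u i • bv i := by
      funext a
      by_cases ha : a = i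
      · subst ha; simp [bv]
      · simp [bv, ha, hc a ha]
    rw [← hgu, this, mulVec_smul, hg]
    simp [bv]
  have hd : IsUnit ((1 : Matrix ι ι F).updateCol k u) :=
    (Matrix.isUnit_iff_isUnit_det _).mpr (by rw [det_updateCol_one]; exact Ne.isUnit hk)
  refine ⟨g * (hd.unit * pm (swap j k)), ?_, ?_⟩
  · rw [Units.val_mul, ← mulVec_mulVec, Units.val_mul, ← mulVec_mulVec, pm_bv,
      swap_apply_of_ne_of_ne hij hki.symm, IsUnit.unit_spec]
    have : (1 : Matrix ι ι F).updateCol k u *ᵥ bv i = bv i := by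
      rw [bv, mulVec_single_one]
      funext a
      simp [Matrix.col_apply, Ne.symm hki, Matrix.one_apply, Pi.single_apply]
    rw [this, hg]
  · rw [Units.val_mul, ← mulVec_mulVec, Units.val_mul, ← mulVec_mulVec, pm_bv, swap_apply_left,
      IsUnit.unit_spec]
    have : (1 : Matrix ι ι F).updateCol k u *ᵥ bv k = u := by
      rw [bv, mulVec_single_one]
      funext a
      simp [Matrix.col_apply]
    rw [this, hgu]

end CfsgLib.SpPres
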