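import Cfsg.Agent.Lib.SpPres.Main
import Cfsg.Agent.Lib.FormRep.Symplectic
import Cfsg.Prelude.Def_Classical

/-!
# The center of `Sp_{2n}` is cyclic
-/

set_option autoImplicit false

namespace CfsgLib.SpPres

open Matrix
open CfsgLib.SLPres (Presents)

variable {F : Type*} [Field F] [Fintype F]

theorem center_cyclic {n : ℕ} (hn : 0 < n) :
    IsCyclic (Subgroup.center (Matrix.symplecticGroup (Fin n) F)) := by
  haveI : Finite (Matrix.symplecticGroup (Fin n) F) :=
    Finite.of_injective (fun A => A.1) Subtype.val_injective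
  let Z := Subgroup.center (Matrix.symplecticGroup (Fin n) F)
  let i : Fin n ⊕ Fin n := Sum.inl ⟨0, hn⟩
  let f : Z →* F :=
    { toFun := fun g => g.1.1 i i
      map_one' := by simp
      map_mul' := fun g h => by
        obtain ⟨c, hc⟩ := (FormRep.Symplectic.center_iff _).1 g.2
        show ((g.1.1 * h.1.1 : Matrix _ _ F)) i i = _
        rw [hc, Matrix.smul_mul, Matrix.one_mul]
        simp }
  refine isCyclic_of_subgroup_isDomain f fun g h e => ?_
  obtain ⟨c, hc⟩ := (FormRep.Symplectic.center_iff _).1 g.2
  obtain ⟨d, hd⟩ := (FormRep.Symplectic.center_iff _).1 h.2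
  have : c = d := by
    have e' : g.1.1 i i = h.1.1 i i := e
    rw [hc, hd] at e'
    simpa using e'
  exact Subtype.ext (Subtype.ext (by rw [hc, hd, this]))

theorem psp_presents {n k r : ℕ} (hn : 0 < n) (h : Presents (Matrix.symplecticGroup (Fin n) F) k r) :
    Presents (Cfsg.PSp n F) k (r + 1) := by
  haveI : Finite (Matrix.symplecticGroup (Fin n) F) :=
    Finite.of_injective (fun A => A.1) Subtype.val_injective
  haveI := center_cyclic (F := F) hn
  exact h.quotient _

end CfsgLib.SpPres
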